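import Cfsg.Agent.FischerTransitivity.Basic

/-!
For a generating class `D` of 3-transpositions of a finite group with no nontrivial solvable normal
subgroup: twins are trivial and `⟨D_x⟩` is transitive on `D_x` (Fischer's transitivity theorem).
-/

set_option autoImplicit false

namespace CfsgLib.FischerTransitivity

variable {G : Type*} [Group G] [Finite G] {D : Set G}

/-- `V`-twins: members with the same commuting set, itself included, are equal. -/
theorem eq_of_insert_commSet_eq
    (hsol : ∀ N : Subgroup G, N.Normal → Group.IsSolvable ↥N → N = ⊥)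
    (hD : Cfsg.IsThreeTranspositionClass D) {x v : G} (hx : x ∈ D) (hv : v ∈ D)
    (h : insert v (commSet D v) = insert x (commSet D x)) : v = x := by
  let f : G → Set G := fun x => insert x (commSet D x)
  have hinv : ∀ g : G, ∀ u ∈ D, ∀ v ∈ D, f u = f v → f (g * u * g⁻¹) = f (g * v * g⁻¹) := by
    intro g u _ v _ huv
    have := congrArg (fun S => (fun a => g * a * g⁻¹) '' S) huv
    simpa only [f, Set.image_insert_eq, conj_commSet hD] using this
  have hcomm : ∀ u ∈ D, ∀ w ∈ D, f u = f w → Commute u w := by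
    intro u hu w _ huw
    have : u ∈ f w := huw ▸ Set.mem_insert u _
    rcases Set.mem_insert_iff.1 this with rfl | h
    · exact Commute.refl _
    · exact h.2.2.symm
  have h1 : ∀ x ∈ D, ∀ v ∈ D, ∀ z ∈ D,
      f v = f x → f z ≠ f x → Commute x z → Commute v z := by
    intro x _ v hv z hz hvx hzx hc
    have hzne : z ≠ x := fun h => hzx (by rw [h])
    have : z ∈ f v := hvx ▸ Set.mem_insert_of_mem _ ⟨hz, hzne, hc⟩
    rcases Set.mem_insert_iff.1 this with rfl | h
    · exact Commute.refl _
    · exact h.2.2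
  refine block_trivial_of_solvable hD f hinv h1 hsol (fun x hx => ?_) x hx v hv h
  -- the generators commute pairwise
  apply Group.isSolvable_of_comm
  intro a b
  have hpc : ∀ p ∈ blkGroup D f x, ∀ q ∈ blkGroup D f x, Commute p q := by
    have hgen : ∀ u ∈ blk D f x, ∀ w ∈ blk D f x, Commute u w :=
      fun u hu w hw => hcomm u hu.1 w hw.1 (hu.2.trans hw.2.symm)
    have h' : blkGroup D f x ≤ Subgroup.closure (blk D f x) := by
      rw [blkGroup, Subgroup.closure_le]
      rintro k ⟨u, hu, v, hv, rfl⟩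
      exact mul_mem (Subgroup.subset_closure hu) (Subgroup.subset_closure hv)
    suffices H : ∀ p ∈ Subgroup.closure (blk D f x), ∀ q ∈ Subgroup.closure (blk D f x),
        Commute p q from fun p hp q hq => H p (h' hp) q (h' hq)
    intro p hp' q hq'
    induction hp', hq' using Subgroup.closure_induction₂ with
    | mem p q hp hq => exact hgen p hp q hq
    | one_left => exact Commute.one_left _
    | one_right => exact Commute.one_right _
    | mul_left _ _ _ _ _ _ h₁ h₂ => exact h₁.mul_left h₂
    | mul_right _ _ _ _ _ _ h₁ h₂ => exact h₁.mul_right h₂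
    | inv_left _ _ _ _ h => exact h.inv_left
    | inv_right _ _ _ _ h => exact h.inv_right
  exact Subtype.ext (hpc a a.2 b b.2)

/-- `W`-twins: members with the same commuting partners are equal, when there are some. -/
theorem eq_of_commSet_eq
    (hsol : ∀ N : Subgroup G, N.Normal → Group.IsSolvable ↥N → N = ⊥)
    (hD : Cfsg.IsThreeTranspositionClass D) {x v : G} (hx : x ∈ D) (hv : v ∈ D)
    (hne : (commSet D x).Nonempty) (h : commSet D v = commSet D x) : v = x := by
  refine block_trivial hD (commSet D) ?_ ?_ hsol ?_ ?_ x hx v hv h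
  · intro g u _ w _ huw
    rw [← conj_commSet hD, ← conj_commSet hD, huw]
  · intro a _ b _ z hz hba hza hc
    have hzne : z ≠ a := fun h => hza (by rw [h])
    have : z ∈ commSet D b := hba ▸ ⟨hz, hzne, hc⟩
    exact this.2.2
  · intro a ha z hz hza hnc
    have : ¬ commSet D a ⊆ commSet D z := fun hsub => hza
      (Set.eq_of_subset_of_ncard_le hsub (commSet_ncard_eq hD hz ha).le (Set.toFinite _)).symm
    obtain ⟨e, hea, hez⟩ := Set.not_subset.1 this
    refine ⟨e, hea.1, fun heq => ?_, hea.2.2, fun hc => ?_⟩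
    · rw [← heq] at hea; exact hea.2.1 rfl
    · exact hez ⟨hea.1, fun h => hnc (h ▸ hea.2.2), hc.symm⟩
  · obtain ⟨e, he⟩ := hne
    refine ⟨x, hx, e, he.1, fun h' => ?_⟩
    rw [← h'] at he; exact he.2.1 rfl

/-- The orbit of `a` under the group generated by the commuting partners of `x`. -/
def partnerOrbit (D : Set G) (x a : G) : Set G :=
  {b | ∃ g ∈ Subgroup.closure (commSet D x), g * a * g⁻¹ = b}

omit [Finite G] in
theorem mem_partnerOrbit_self (x a : G) : a ∈ partnerOrbit D x a :=
  ⟨1, one_mem _, by simp⟩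

omit [Finite G] in
theorem closure_commSet_le_centralizer (x : G) :
    Subgroup.closure (commSet D x) ≤ Subgroup.centralizer {x} := by
  rw [Subgroup.closure_le]
  intro y hy
  rw [SetLike.mem_coe, Subgroup.mem_centralizer_singleton_iff]
  exact hy.2.2.symm

omit [Finite G] in
theorem partnerOrbit_subset (hD : Cfsg.IsThreeTranspositionClass D) {x a : G}
    (ha : a ∈ commSet D x) : partnerOrbit D x a ⊆ commSet D x := by
  rintro b ⟨g, hg, rfl⟩
  have hgx : g * x * g⁻¹ = x := by
    have hc : g * x = x * g :=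
      Subgroup.mem_centralizer_singleton_iff.1 (closure_commSet_le_centralizer x hg)
    rw [hc, mul_assoc, mul_inv_cancel, mul_one]
  have : g * a * g⁻¹ ∈ commSet D (g * x * g⁻¹) := (conj_commSet hD x g).subset ⟨a, ha, rfl⟩
  rwa [hgx] at this

omit [Finite G] in
theorem partnerOrbit_eq {x a b : G} (hb : b ∈ partnerOrbit D x a) :
    partnerOrbit D x b = partnerOrbit D x a := by
  obtain ⟨g, hg, rfl⟩ := hb
  ext c
  constructor
  · rintro ⟨k, hk, rfl⟩
    exact ⟨k * g, mul_mem hk hg, by group⟩
  · rintro ⟨k, hk, rfl⟩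
    exact ⟨k * g⁻¹, mul_mem hk (inv_mem hg), by group⟩

omit [Finite G] in
theorem commute_of_not_mem_partnerOrbit (hD : Cfsg.IsThreeTranspositionClass D) {x a b : G}
    (ha : a ∈ commSet D x) (hb : b ∈ commSet D x) (h : b ∉ partnerOrbit D x a) :
    Commute a b := by
  by_contra hc
  exact h ⟨a * b, mul_mem (Subgroup.subset_closure ha) (Subgroup.subset_closure hb),
    conj_mul_eq hD ha.1 hb.1 hc⟩

omit [Finite G] in
theorem conj_partnerOrbit (hD : Cfsg.IsThreeTranspositionClass D) (g x a : G) :
    (fun t => g * t * g⁻¹) '' partnerOrbit D x a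
      = partnerOrbit D (g * x * g⁻¹) (g * a * g⁻¹) := by
  have key : ∀ (g x : G), ∀ k ∈ Subgroup.closure (commSet D x),
      g * k * g⁻¹ ∈ Subgroup.closure (commSet D (g * x * g⁻¹)) := by
    intro g x k hk
    have := Subgroup.mem_map_of_mem (MulAut.conj g).toMonoidHom hk
    rw [MonoidHom.map_closure] at this
    rw [← conj_commSet hD x g]
    exact this
  ext y
  constructor
  · rintro ⟨_, ⟨k, hk, rfl⟩, rfl⟩
    exact ⟨g * k * g⁻¹, key g x k hk, by group⟩
  · rintro ⟨k, hk, rfl⟩
    have := key g⁻¹ _ k hk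
    rw [show g⁻¹ * (g * x * g⁻¹) * g⁻¹⁻¹ = x by group] at this
    exact ⟨_, ⟨_, this, rfl⟩, by group⟩

/-- The largest orbits at `x`. -/
def maxOrbits (D : Set G) (x : G) : Set (Set G) :=
  {C | ∃ a ∈ commSet D x, C = partnerOrbit D x a ∧
    ∀ b ∈ commSet D x, (partnerOrbit D x b).ncard ≤ (partnerOrbit D x a).ncard}

omit [Finite G] in
theorem conj_maxOrbits (hD : Cfsg.IsThreeTranspositionClass D) (g x : G) :
    Set.image (fun t => g * t * g⁻¹) '' maxOrbits D x = maxOrbits D (g * x * g⁻¹) := by
  have hcard : ∀ (g x a : G), (partnerOrbit D (g * x * g⁻¹) (g * a * g⁻¹)).ncard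
      = (partnerOrbit D x a).ncard := by
    intro g x a
    rw [← conj_partnerOrbit hD,
      Set.ncard_image_of_injective _ (fun a b h => mul_left_cancel (mul_right_cancel h))]
  ext C
  constructor
  · rintro ⟨_, ⟨a, ha, rfl, hmax⟩, rfl⟩
    refine ⟨g * a * g⁻¹, (conj_commSet hD x g).subset ⟨a, ha, rfl⟩, conj_partnerOrbit hD g x a, ?_⟩
    intro b hb
    rw [← conj_commSet hD] at hb
    obtain ⟨b, hb, rfl⟩ := hb
    rw [hcard, hcard]; exact hmax b hb
  · rintro ⟨a, ha, rfl, hmax⟩
    rw [← conj_commSet hD] at ha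
    obtain ⟨a, ha, rfl⟩ := ha
    refine ⟨_, ⟨a, ha, rfl, fun b hb => ?_⟩, conj_partnerOrbit hD g x a⟩
    have := hmax _ ((conj_commSet hD x g).subset ⟨b, hb, rfl⟩)
    rwa [hcard, hcard] at this

/-- A largest orbit at `x` is a largest orbit at every member commuting with all of it. -/
theorem mem_maxOrbits_of_commute (hD : Cfsg.IsThreeTranspositionClass D) {x u : G} {C : Set G}
    (hx : x ∈ D) (hu : u ∈ D) (hC : C ∈ maxOrbits D x) (hcomm : ∀ c ∈ C, Commute u c)
    (hnot : u ∉ C) : C ∈ maxOrbits D u := by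
  obtain ⟨a, ha, rfl, hmax⟩ := hC
  have hsub : partnerOrbit D x a ⊆ commSet D u := fun c hc =>
    ⟨(partnerOrbit_subset hD ha hc).1, fun h => hnot (h ▸ hc), hcomm c hc⟩
  -- a member of the orbit is obtained from `a` inside the group generated by the orbit
  have hin : ∀ g ∈ Subgroup.closure (commSet D x),
      ∀ k ∈ Subgroup.closure (partnerOrbit D x a),
        ∃ k' ∈ Subgroup.closure (partnerOrbit D x a),
          g * (k * a * k⁻¹) * g⁻¹ = k' * a * k'⁻¹ := by
    intro g hg
    have hgen : ∀ d ∈ commSet D x, ∀ k ∈ Subgroup.closure (partnerOrbit D x a),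
        ∃ k' ∈ Subgroup.closure (partnerOrbit D x a),
          d * (k * a * k⁻¹) * d⁻¹ = k' * a * k'⁻¹ := by
      intro d hd k hk
      have hkx : k ∈ Subgroup.closure (commSet D x) :=
        (Subgroup.closure_mono (partnerOrbit_subset hD ha)) hk
      by_cases hc : Commute (k * a * k⁻¹) d
      · exact ⟨k, hk, by rw [← hc.eq, mul_assoc, mul_inv_cancel, mul_one]⟩
      · have hb : k * a * k⁻¹ ∈ partnerOrbit D x a := ⟨k, hkx, rfl⟩
        have hd' : d ∈ partnerOrbit D x a := by
          by_contra h
          rw [← partnerOrbit_eq hb] at h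
          exact hc (commute_of_not_mem_partnerOrbit hD (partnerOrbit_subset hD ha hb) hd h)
        exact ⟨d * k, mul_mem (Subgroup.subset_closure hd') hk, by group⟩
    induction hg using Subgroup.closure_induction'' with
    | one => intro k hk; exact ⟨k, hk, by simp⟩
    | mem d hd => exact hgen d hd
    | inv_mem d hd => rw [inv_self hD hd.1]; exact hgen d hd
    | mul p q _ _ ihp ihq =>
      intro k hk
      obtain ⟨k', hk', e'⟩ := ihq k hk
      obtain ⟨k'', hk'', e''⟩ := ihp k' hk'
      exact ⟨k'', hk'', by rw [← e'', ← e']; group⟩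
  have hle : partnerOrbit D x a ⊆ partnerOrbit D u a := by
    rintro c ⟨g, hg, rfl⟩
    obtain ⟨k, hk, e⟩ := hin g hg 1 (one_mem _)
    refine ⟨k, Subgroup.closure_mono hsub hk, ?_⟩
    rw [← e]; group
  have hau := hsub (mem_partnerOrbit_self x a)
  obtain ⟨g, hg⟩ := exists_conj hD hu hx
  have hglob : ∀ b ∈ commSet D u, (partnerOrbit D u b).ncard ≤ (partnerOrbit D x a).ncard := by
    intro b hb
    have hb' : g * b * g⁻¹ ∈ commSet D x := hg ▸ ((conj_commSet hD u g).subset ⟨b, hb, rfl⟩)
    have h := hmax _ hb'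
    rw [← Set.ncard_image_of_injective (partnerOrbit D u b)
      (f := fun t => g * t * g⁻¹) (fun a b h => mul_left_cancel (mul_right_cancel h)),
      conj_partnerOrbit hD, hg]
    exact h
  have heq := Set.eq_of_subset_of_ncard_le hle (hglob a hau) (Set.toFinite _)
  exact ⟨a, hau, heq, fun b hb => heq ▸ hglob b hb⟩

/-- Members with the same largest orbits are equal. -/
theorem eq_of_maxOrbits_eq
    (hsol : ∀ N : Subgroup G, N.Normal → Group.IsSolvable ↥N → N = ⊥)
    (hD : Cfsg.IsThreeTranspositionClass D) {x v : G} (hx : x ∈ D) (hv : v ∈ D)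
    (hne : (commSet D x).Nonempty) (h : maxOrbits D v = maxOrbits D x) : v = x := by
  have hsubset : ∀ a ∈ D, ∀ z ∈ D, maxOrbits D a ⊆ maxOrbits D z →
      maxOrbits D a = maxOrbits D z := by
    intro a ha z hz hsub
    obtain ⟨g, hg⟩ := exists_conj hD ha hz
    refine Set.eq_of_subset_of_ncard_le hsub ?_ (Set.toFinite _)
    rw [← hg, ← conj_maxOrbits hD]
    exact Set.ncard_image_le (Set.toFinite _)
  refine block_trivial hD (maxOrbits D) ?_ ?_ hsol ?_ ?_ x hx v hv h
  · intro g u _ w _ huw
    rw [← conj_maxOrbits hD, ← conj_maxOrbits hD, huw]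
  · intro a ha b _ z hz hba hza hc
    have hzne : z ≠ a := fun h => hza (by rw [h])
    have hzD : z ∈ commSet D a := ⟨hz, hzne, hc⟩
    by_cases hm : partnerOrbit D a z ∈ maxOrbits D a
    · rw [← hba] at hm
      obtain ⟨c, hc', heq, _⟩ := hm
      exact (partnerOrbit_subset hD hc' (heq ▸ mem_partnerOrbit_self a z)).2.2
    · refine absurd (hsubset a ha z hz (fun C hC => ?_)).symm hza
      obtain ⟨c, hc', rfl, hcm⟩ := hC
      have hzn : z ∉ partnerOrbit D a c := fun h =>
        hm ⟨c, hc', partnerOrbit_eq h, hcm⟩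
      refine mem_maxOrbits_of_commute hD ha hz ⟨c, hc', rfl, hcm⟩ (fun e he => ?_) hzn
      rw [← partnerOrbit_eq he] at hzn
      exact (commute_of_not_mem_partnerOrbit hD (partnerOrbit_subset hD hc' he) hzD hzn).symm
  · intro a ha z hz hza hnc
    by_contra hcon
    push Not at hcon
    refine hza (hsubset a ha z hz (fun C hC => ?_)).symm
    obtain ⟨c, hc', rfl, hcm⟩ := hC
    have hmem : partnerOrbit D a c ∈ maxOrbits D a := ⟨c, hc', rfl, hcm⟩
    refine mem_maxOrbits_of_commute hD ha hz hmem (fun e he => ?_)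
      (fun h => hnc (partnerOrbit_subset hD hc' h).2.2)
    have hea := partnerOrbit_subset hD hc' he
    refine (hcon e hea.1 (fun heq => ?_) hea.2.2).symm
    rw [← heq] at hmem
    obtain ⟨c', hc'', heq', _⟩ := hmem
    exact (partnerOrbit_subset hD hc'' (heq' ▸ he)).2.1 rfl
  · obtain ⟨w, hw, hwmax⟩ := (commSet D x).toFinite.exists_maximalFor
      (fun b => (partnerOrbit D x b).ncard) _ hne
    have hmax : ∀ b ∈ commSet D x, (partnerOrbit D x b).ncard ≤ (partnerOrbit D x w).ncard := by
      intro b hb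
      by_contra hlt
      exact hlt (hwmax hb (le_of_lt (not_le.1 hlt)))
    refine ⟨x, hx, w, hw.1, fun heq => ?_⟩
    have hm : partnerOrbit D x w ∈ maxOrbits D x := ⟨w, hw, rfl, hmax⟩
    rw [← heq] at hm
    obtain ⟨c', hc', heq', _⟩ := hm
    exact (partnerOrbit_subset hD hc' (heq' ▸ mem_partnerOrbit_self x w)).2.1 rfl

/-- **Fischer's transitivity theorem.** -/
theorem transitive_on_commSet
    (hsol : ∀ N : Subgroup G, N.Normal → Group.IsSolvable ↥N → N = ⊥)
    (hD : Cfsg.IsThreeTranspositionClass D) {x y y' : G} (hx : x ∈ D)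
    (hy : y ∈ commSet D x) (hy' : y' ∈ commSet D x) :
    ∃ g ∈ Subgroup.closure (commSet D x), g * y * g⁻¹ = y' := by
  have hne : (commSet D x).Nonempty := ⟨y, hy⟩
  -- every orbit is a largest one
  have hall : ∀ a ∈ commSet D x, partnerOrbit D x a ∈ maxOrbits D x := by
    intro a ha
    by_contra hm
    refine ha.2.1 (eq_of_maxOrbits_eq hsol hD hx ha.1 hne ?_)
    have hsub : maxOrbits D x ⊆ maxOrbits D a := by
      intro C hC
      obtain ⟨c, hc, rfl, hcm⟩ := hC
      have han : a ∉ partnerOrbit D x c := fun h => hm ⟨c, hc, partnerOrbit_eq h, hcm⟩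
      refine mem_maxOrbits_of_commute hD hx ha.1 ⟨c, hc, rfl, hcm⟩ (fun e he => ?_) han
      rw [← partnerOrbit_eq he] at han
      exact (commute_of_not_mem_partnerOrbit hD (partnerOrbit_subset hD hc he) ha han).symm
    refine (Set.eq_of_subset_of_ncard_le hsub ?_ (Set.toFinite _)).symm
    obtain ⟨g, hg⟩ := exists_conj hD hx ha.1
    rw [← hg, ← conj_maxOrbits hD]
    exact Set.ncard_image_le (Set.toFinite _)
  by_contra hcon
  have hsep : y' ∉ partnerOrbit D x y := fun h => hcon h
  -- a partner of `y` that does not commute with `x`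
  obtain ⟨t, hty, htx⟩ : ∃ t ∈ commSet D y, ¬ Commute x t := by
    by_contra h
    push Not at h
    refine hy.2.1 (eq_of_insert_commSet_eq hsol hD hx hy.1 ?_)
    refine Set.eq_of_subset_of_ncard_le ?_ ?_ (Set.toFinite _)
    · intro e he
      by_cases hex : e = x
      · exact hex ▸ Set.mem_insert _ _
      · refine Set.mem_insert_of_mem _ ?_
        rcases Set.mem_insert_iff.1 he with rfl | he
        · exact hy
        · exact ⟨he.1, hex, h e he⟩
    · rw [Set.ncard_insert_of_notMem (fun hm => hm.2.1 rfl) (Set.toFinite _),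
        Set.ncard_insert_of_notMem (fun hm => hm.2.1 rfl) (Set.toFinite _),
        commSet_ncard_eq hD hx hy.1]
  -- `t` commutes with each orbit commuting with `y`, then with all of them
  have hstep : ∀ p ∈ commSet D x, ∀ c ∈ commSet D x, c ∉ partnerOrbit D x p →
      t ∈ commSet D p → Commute t c := by
    intro p hp c hc hcp htp
    by_contra hnc
    have hpc : p ∉ partnerOrbit D x c := fun h =>
      hcp (partnerOrbit_eq h ▸ mem_partnerOrbit_self x c)
    have hC : partnerOrbit D x c ∈ maxOrbits D p := by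
      refine mem_maxOrbits_of_commute hD hx hp.1 (hall c hc) (fun e he => ?_) hpc
      rw [← partnerOrbit_eq he] at hpc
      exact (commute_of_not_mem_partnerOrbit hD (partnerOrbit_subset hD hc he) hp hpc).symm
    obtain ⟨q, hq, heq, _⟩ := hC
    have hcq : c ∈ partnerOrbit D p q := heq ▸ mem_partnerOrbit_self x c
    have htc : t ∈ partnerOrbit D p c :=
      ⟨c * t, mul_mem (Subgroup.subset_closure (partnerOrbit_subset hD hq hcq))
        (Subgroup.subset_closure htp),
        conj_mul_eq hD hc.1 hty.1 (fun h => hnc h.symm)⟩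
    rw [partnerOrbit_eq hcq, ← heq] at htc
    exact htx (partnerOrbit_subset hD hc htc).2.2
  have hty' : Commute t y' := hstep y hy y' hy' hsep hty
  have htD : ∀ c ∈ commSet D x, Commute t c := by
    intro c hc
    by_cases hcy : c ∈ partnerOrbit D x y
    · refine hstep y' hy' c hc (fun h => hsep ?_)
        ⟨hty.1, fun h => htx (h ▸ hy'.2.2), hty'.symm⟩
      rw [← partnerOrbit_eq hcy, partnerOrbit_eq h]
      exact mem_partnerOrbit_self x y'
    · exact hstep y hy c hc hcy hty
  refine htx ?_
  have heq : commSet D t = commSet D x := by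
    refine (Set.eq_of_subset_of_ncard_le (fun c hc => ?_)
      (commSet_ncard_eq hD hty.1 hx).le (Set.toFinite _)).symm
    exact ⟨hc.1, fun h => htx (h ▸ hc.2.2), htD c hc⟩
  rw [eq_of_commSet_eq hsol hD hx hty.1 hne heq]

end CfsgLib.FischerTransitivity
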