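import Cfsg.Agent.FischerTransitivity.Transitivity
import Cfsg.Agent.Transpositions.WidthOne

/-!
For a generating class `D` of 3-transpositions of a finite group with perfect derived group:
two members are joined by a chain of commuting members, unless no two distinct members commute;
and the centraliser of `x` is transitive on the members not commuting with `x`.
-/

set_option autoImplicit false

namespace CfsgLib.FischerTransitivity

open scoped commutatorElement

variable {G : Type*} [Group G] {D : Set G}

/-- A commuting edge inside `D`. -/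
def CommEdge (D : Set G) (a b : G) : Prop := a ∈ D ∧ b ∈ D ∧ Commute a b

/-- The members joined to `x` by a chain of commuting members. -/
def commClass (D : Set G) (x : G) : Set G := {z | Relation.ReflTransGen (CommEdge D) x z}

theorem CommEdge.swap {a b : G} (h : CommEdge D a b) : CommEdge D b a := ⟨h.2.1, h.1, h.2.2.symm⟩

theorem commClass_eq_iff {a b : G} : commClass D a = commClass D b ↔ b ∈ commClass D a := by
  have : Std.Symm (CommEdge D) := ⟨fun _ _ h => h.swap⟩
  constructor
  · intro h
    rw [h]
    exact Relation.ReflTransGen.refl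
  · intro h
    have h' : Relation.ReflTransGen (CommEdge D) b a :=
      Relation.ReflTransGen.stdSymm.symm _ _ h
    ext z
    exact ⟨fun hz => h'.trans hz, fun hz => h.trans hz⟩

theorem commClass_eq_of_commute {a b : G} (ha : a ∈ D) (hb : b ∈ D) (h : Commute a b) :
    commClass D a = commClass D b :=
  commClass_eq_iff.2 (Relation.ReflTransGen.single ⟨ha, hb, h⟩)

variable (hD : Cfsg.IsThreeTranspositionClass D)
include hD

theorem conj_mem_commClass {a z : G} (g : G) (h : z ∈ commClass D a) :
    g * z * g⁻¹ ∈ commClass D (g * a * g⁻¹) :=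
  Relation.ReflTransGen.lift (fun t => g * t * g⁻¹)
    (fun _ _ e => ⟨conj_mem hD g e.1, conj_mem hD g e.2.1, (Commute.conj_iff g).2 e.2.2⟩) _ _ h

variable [Finite G]

/-- With perfect derived group the commuting graph is connected or edgeless. -/
theorem mem_commClass
    (hperf : ⁅commutator G, commutator G⁆ = commutator G) {a b : G} (ha : a ∈ D) (hb : b ∈ D) :
    b ∈ commClass D a := by
  classical
  have hinv : ∀ g : G, ∀ u ∈ D, ∀ v ∈ D, commClass D u = commClass D v →
      commClass D (g * u * g⁻¹) = commClass D (g * v * g⁻¹) := fun g u _ v _ h =>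
    commClass_eq_iff.2 (conj_mem_commClass hD g (commClass_eq_iff.1 h))
  have h1 : ∀ x ∈ D, ∀ v ∈ D, ∀ z ∈ D,
      commClass D v = commClass D x → commClass D z ≠ commClass D x → Commute x z → Commute v z :=
    fun x hx v _ z hz _ hne hc => absurd (commClass_eq_of_commute hx hz hc).symm hne
  set K := fixSub hD (commClass D) with hK
  haveI : K.Normal := fixSub_normal hD (commClass D) hinv
  have same : ∀ u ∈ D, ∀ v ∈ D, commClass D u = commClass D v → u * v ∈ K := fun u hu v hv h =>
    mul_fixes hD (commClass D) hinv h1 hu ⟨hu, rfl⟩ ⟨hv, h.symm⟩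
  have diff : ∀ u ∈ D, ∀ v ∈ D, u * v ∈ K → commClass D u = commClass D v := by
    intro u hu v hv h
    by_contra hne
    have hnc : ¬ Commute u v := fun hc => hne (commClass_eq_of_commute hu hv hc)
    have := (h : ∀ z ∈ D, _) u hu
    rw [conj_mul_eq hD hu hv hnc] at this
    exact hne this.symm
  let π := QuotientGroup.mk' K
  have hπ : Function.Surjective π := QuotientGroup.mk'_surjective K
  have heq : ∀ u ∈ D, ∀ v ∈ D, (π u = π v ↔ commClass D u = commClass D v) := by
    intro u hu v hv
    rw [QuotientGroup.mk'_apply, QuotientGroup.mk'_apply, QuotientGroup.eq, inv_self hD hu]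
    exact ⟨diff u hu v hv, same u hu v hv⟩
  -- the image is a group of width one
  let S : Set (G ⧸ K) := π '' D
  have hS : Cfsg.IsThreeTranspositionGroup S → IsPGroup 3 (Transpositions.productsSubgroup S) :=
    fun h => Transpositions.isPGroup_productsSubgroup h.1
      (fun x hx y hy => Transpositions.conj_mem_of_mem h.1 h.2.1 hx hy)
      (by
        rintro _ ⟨u, hu, rfl⟩ _ ⟨v, hv, rfl⟩ hc
        rw [heq u hu v hv]
        by_contra hne
        have hnc : ¬ Commute u v := fun h => hne (commClass_eq_of_commute hu hv h)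
        have h3 : (u * v) ^ 3 = 1 := (hD.1.2 u hu v hv).resolve_left fun h2 => hnc
          (commute_of_sq (by rw [pow_two, sq_one hD hu]) (by rw [pow_two, sq_one hD hv]) h2)
        have h2 : π (u * v) ^ 2 = 1 := by
          rw [map_mul, pow_two,
            hc.symm.mul_mul_mul_comm, ← map_mul, ← map_mul, sq_one hD hu, sq_one hD hv,
            map_one, one_mul]
        have h1' : π (u * v) = 1 := by
          have : π (u * v) ^ 3 = 1 := by rw [← map_pow, h3, map_one]
          rwa [pow_succ, h2, one_mul] at this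
        exact hne (diff u hu v hv ((QuotientGroup.eq_one_iff _).1 h1')))
  suffices h : π a = π b from commClass_eq_iff.1 ((heq a ha b hb).1 h)
  by_contra hab
  have hSgen : Subgroup.closure S = ⊤ := by
    rw [← MonoidHom.map_closure, hD.2.2, Subgroup.map_top_of_surjective _ hπ]
  have hSgrp : Cfsg.IsThreeTranspositionGroup S := by
    refine ⟨⟨?_, ?_⟩, ?_, hSgen⟩
    · rintro _ ⟨u, hu, rfl⟩
      refine orderOf_eq_prime (p := 2) ?_ ?_
      · rw [← map_pow, pow_two, sq_one hD hu, map_one]
      · intro h1'
        -- then every member is trivial in the quotient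
        apply hab
        have hall : ∀ v ∈ D, π v = 1 := by
          intro v hv
          obtain ⟨g, rfl⟩ := exists_conj hD hu hv
          simp [map_mul, h1']
        rw [hall a ha, hall b hb]
    · rintro _ ⟨u, hu, rfl⟩ _ ⟨v, hv, rfl⟩
      rw [← map_mul, ← map_pow, ← map_pow]
      exact (hD.1.2 u hu v hv).imp (fun h => by rw [h, map_one]) (fun h => by rw [h, map_one])
    · rintro g _ ⟨u, hu, rfl⟩
      obtain ⟨g, rfl⟩ := hπ g
      exact ⟨g * u * g⁻¹, conj_mem hD g hu, by simp [map_mul]⟩
  have hP := hS hSgrp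
  set P := Transpositions.productsSubgroup S with hPdef
  haveI : P.Normal := Transpositions.productsSubgroup_normal hSgrp.2.1
  haveI : Fact (Nat.Prime 3) := ⟨Nat.prime_three⟩
  -- modulo the products all members are equal, so the derived group is inside them
  have hder : commutator (G ⧸ K) ≤ P := by
    have hmem : ∀ q : G ⧸ K, q ∈ Subgroup.zpowers (π a) ⊔ P := by
      intro q
      have : Subgroup.closure S ≤ Subgroup.zpowers (π a) ⊔ P := by
        rw [Subgroup.closure_le]
        intro s hs
        have := mul_mem (Subgroup.mem_sup_left (T := P) (Subgroup.mem_zpowers (π a)))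
          (Subgroup.mem_sup_right (S := Subgroup.zpowers (π a))
            (Transpositions.mul_mem_productsSubgroup (Set.mem_image_of_mem π ha) hs))
        rwa [← mul_assoc, ← map_mul, sq_one hD ha, map_one, one_mul] at this
      exact this (hSgen ▸ Subgroup.mem_top q)
    rw [commutator_eq_closure, Subgroup.closure_le]
    rintro _ ⟨p, q, rfl⟩
    obtain ⟨s, hs, n, hn, rfl⟩ := Subgroup.mem_sup_of_normal_right.1 (hmem p)
    obtain ⟨t, ht, m, hm, rfl⟩ := Subgroup.mem_sup_of_normal_right.1 (hmem q)
    obtain ⟨i, rfl⟩ := Subgroup.mem_zpowers_iff.1 hs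
    obtain ⟨j, rfl⟩ := Subgroup.mem_zpowers_iff.1 ht
    rw [SetLike.mem_coe, ← QuotientGroup.eq_one_iff]
    have hn' : ((n : G ⧸ K) : (G ⧸ K) ⧸ P) = 1 := (QuotientGroup.eq_one_iff n).2 hn
    have hm' : ((m : G ⧸ K) : (G ⧸ K) ⧸ P) = 1 := (QuotientGroup.eq_one_iff m).2 hm
    simp only [commutatorElement_def, QuotientGroup.mk_mul, QuotientGroup.mk_inv,
      QuotientGroup.mk_zpow, hn', hm']
    group
  have hperfQ : ⁅commutator (G ⧸ K), commutator (G ⧸ K)⁆ = commutator (G ⧸ K) := by
    have hmap : (commutator G).map π = commutator (G ⧸ K) := by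
      rw [commutator_def, commutator_def, Subgroup.map_commutator,
        Subgroup.map_top_of_surjective _ hπ]
    rw [← hmap, ← Subgroup.map_commutator, hperf]
  haveI : Group.IsSolvable (G ⧸ K) := by
    haveI : Group.IsNilpotent P := hP.isNilpotent
    refine Group.isSolvable_of_ker_le_range P.subtype (Abelianization.of (G := G ⧸ K)) ?_
    rw [Abelianization.ker_of, Subgroup.range_subtype]
    exact hder
  have hbot : commutator (G ⧸ K) = ⊥ := by
    by_contra hne
    exact (Group.IsSolvable.commutator_lt_of_ne_bot hne).ne hperfQ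
  apply hab
  obtain ⟨g, rfl⟩ := exists_conj hD ha hb
  have : ⁅π g, π a⁆ = 1 := by
    rw [← Subgroup.mem_bot, ← hbot, commutator_def]
    exact Subgroup.commutator_mem_commutator (Subgroup.mem_top _) (Subgroup.mem_top _)
  rw [map_mul, map_mul, map_inv, (commutatorElement_eq_one_iff_mul_comm.1 this)]
  group

omit [Finite G] in
/-- For commuting members not commuting with `x`, some element fixing `x` carries one to the
other. -/
theorem exists_fix_conj_of_commute {x y z : G} (hx : x ∈ D) (hy : y ∈ D) (hz : z ∈ D)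
    (hxy : ¬ Commute x y) (hxz : ¬ Commute x z) (hyz : Commute y z) :
    ∃ g : G, g * x * g⁻¹ = x ∧ g * y * g⁻¹ = z := by
  have bxy : ∀ t, x * (y * (x * t)) = y * (x * (y * t)) := fun t => by
    simp only [← mul_assoc, braid hD hx hy hxy]
  have bxz : ∀ t, x * (z * (x * t)) = z * (x * (z * t)) := fun t => by
    simp only [← mul_assoc, braid hD hx hz hxz]
  have cyz : ∀ t, z * (y * t) = y * (z * t) := fun t => by simp only [← mul_assoc, hyz.eq]
  have sx : ∀ t, x * (x * t) = t := fun t => by rw [← mul_assoc, sq_one hD hx, one_mul]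
  have sy : ∀ t, y * (y * t) = t := fun t => by rw [← mul_assoc, sq_one hD hy, one_mul]
  have sz : ∀ t, z * (z * t) = t := fun t => by rw [← mul_assoc, sq_one hD hz, one_mul]
  refine ⟨x * y * z * (x * y * z), ?_, ?_⟩
  · rw [mul_inv_eq_iff_eq_mul, ← mul_one (x * y * z * (x * y * z) * x),
      ← mul_one (x * (x * y * z * (x * y * z)))]
    simp only [mul_assoc]
    calc x * (y * (z * (x * (y * (z * (x * 1))))))
        = x * (y * (z * (x * (z * (y * (x * 1)))))) := by rw [cyz (x * 1)]
      _ = x * (y * (x * (z * (x * (y * (x * 1)))))) := by rw [bxz]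
      _ = y * (x * (y * (z * (y * (x * (y * 1)))))) := by rw [bxy, bxy 1]
      _ = y * (x * (z * (x * (y * 1)))) := by rw [cyz, sy]
      _ = y * (z * (x * (z * (y * 1)))) := by rw [bxz]
      _ = y * (z * (x * (y * (z * 1)))) := by rw [cyz 1]
      _ = x * (x * (y * (z * (x * (y * (z * 1)))))) := by rw [sx]
  · rw [mul_inv_eq_iff_eq_mul, ← mul_one (x * y * z * (x * y * z) * y),
      ← mul_one (z * (x * y * z * (x * y * z)))]
    simp only [mul_assoc]
    calc x * (y * (z * (x * (y * (z * (y * 1))))))
        = x * (y * (z * (x * (z * 1)))) := by rw [cyz 1, sy]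
      _ = x * (y * (x * (z * (x * 1)))) := by rw [bxz]
      _ = y * (x * (y * (z * (x * 1)))) := by rw [bxy]
      _ = y * (x * (z * (y * (x * 1)))) := by rw [cyz]
      _ = y * (x * (z * (x * (x * (y * (x * 1)))))) := by rw [sx]
      _ = y * (z * (x * (z * (x * (y * (x * 1)))))) := by rw [bxz]
      _ = y * (z * (x * (z * (y * (x * (y * 1)))))) := by rw [bxy 1]
      _ = z * (y * (x * (y * (z * (x * (y * 1)))))) := by simp only [cyz]
      _ = z * (x * (y * (x * (z * (x * (y * 1)))))) := by rw [bxy]
      _ = z * (x * (y * (z * (x * (z * (y * 1)))))) := by rw [bxz]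
      _ = z * (x * (y * (z * (x * (y * (z * 1)))))) := by rw [cyz 1]

omit [Finite G] in
/-- Non-commuting members are interchanged by the third member of their line. -/
theorem exists_swap {x y : G} (hx : x ∈ D) (hy : y ∈ D) (hxy : ¬ Commute x y) :
    ∃ g : G, g * x * g⁻¹ = y ∧ g * y * g⁻¹ = x := by
  refine ⟨x * y * x, ?_, ?_⟩
  · rw [braid hD hx hy hxy, mul_inv_eq_iff_eq_mul]
    calc y * x * y * x = y * (x * y * x) := by simp only [mul_assoc]
      _ = y * (y * x * y) := by rw [braid hD hx hy hxy]
  · rw [mul_inv_eq_iff_eq_mul]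
    calc x * y * x * y = x * (y * x * y) := by simp only [mul_assoc]
      _ = x * (x * y * x) := by rw [braid hD hx hy hxy]

/-- The centraliser of `x` is transitive on the members not commuting with `x`. -/
theorem transitive_on_noncommuting
    (hsol : ∀ N : Subgroup G, N.Normal → Group.IsSolvable ↥N → N = ⊥)
    (hperf : ⁅commutator G, commutator G⁆ = commutator G) {x y y' : G}
    (hne : (commSet D x).Nonempty) (hx : x ∈ D) (hy : y ∈ D) (hy' : y' ∈ D)
    (hxy : ¬ Commute x y) (hxy' : ¬ Commute x y') :
    ∃ g : G, g * x * g⁻¹ = x ∧ g * y * g⁻¹ = y' := by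
  -- conjugacy of ordered pairs
  let R : G × G → G × G → Prop := fun p q => ∃ g : G, g * p.1 * g⁻¹ = q.1 ∧ g * p.2 * g⁻¹ = q.2
  have htr : ∀ p q r : G × G, R p q → R q r → R p r := by
    rintro p q r ⟨g, h1, h2⟩ ⟨k, h3, h4⟩
    exact ⟨k * g, by rw [← h3, ← h1]; group, by rw [← h4, ← h2]; group⟩
  have hsy : ∀ p q : G × G, R p q → R q p := by
    rintro p q ⟨g, h1, h2⟩
    exact ⟨g⁻¹, by rw [← h1]; group, by rw [← h2]; group⟩
  have hflip : ∀ a b c d : G, R (a, b) (c, d) → R (b, a) (d, c) := by
    rintro a b c d ⟨g, h1, h2⟩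
    exact ⟨g, h2, h1⟩
  have hsw : ∀ a ∈ D, ∀ b ∈ D, ¬ Commute a b → R (a, b) (b, a) := fun a ha b hb h =>
    exists_swap hD ha hb h
  have hcm : ∀ a ∈ D, ∀ b ∈ D, ∀ c ∈ D, ¬ Commute a b → ¬ Commute a c → Commute b c →
      R (a, b) (a, c) := fun a ha b hb c hc h h' hbc =>
    exists_fix_conj_of_commute hD ha hb hc h h' hbc
  suffices hxy'' : R (x, y) (x, y') from hxy''
  by_contra hnR
  -- conjugation carries common neighbourhoods to common neighbourhoods
  have hmu : ∀ u u' : G, R (x, u) (x, u') →
      (commSet D x ∩ commSet D u).ncard = (commSet D x ∩ commSet D u').ncard := by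
    rintro u u' ⟨g, hgx, hgu⟩
    have hinj : Function.Injective (fun a => g * a * g⁻¹) :=
      fun a b h => mul_left_cancel (mul_right_cancel h)
    have hg := conj_commSet hD x g
    have hg' := conj_commSet hD u g
    simp only at hgx hgu
    rw [hgx] at hg
    rw [hgu] at hg'
    conv_rhs => rw [← hg, ← hg', ← Set.image_inter hinj, Set.ncard_image_of_injective _ hinj]
  have hrefl : ∀ p : G × G, R p p := fun p => ⟨1, by simp, by simp⟩
  -- for unrelated `u`, `v` the smaller of the two common neighbourhoods is inside the larger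
  have hincl : ∀ u ∈ D, ∀ v ∈ D, ¬ Commute x u → ¬ Commute x v → ¬ R (x, u) (x, v) →
      (commSet D x ∩ commSet D u).ncard ≤ (commSet D x ∩ commSet D v).ncard →
      commSet D x ∩ commSet D u ⊆ commSet D v := by
    intro u hu v hv hxu hxv hn hle
    by_contra hnot
    obtain ⟨a, ⟨ha, hau⟩, hav⟩ := Set.not_subset.1 hnot
    obtain ⟨b, ⟨hb, hbv⟩, hbu⟩ : ∃ b, b ∈ commSet D x ∩ commSet D v ∧ b ∉ commSet D u := by
      by_contra h
      push Not at h
      have hsub : commSet D x ∩ commSet D v ⊆ commSet D x ∩ commSet D u :=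
        fun t ht => ⟨ht.1, h t ht⟩
      exact hav ((Set.eq_of_subset_of_ncard_le hsub hle (Set.toFinite _)).symm.subset ⟨ha, hau⟩).2
    have hav' : ¬ Commute v a := fun hc => hav ⟨ha.1, fun h => hxv (h ▸ ha.2.2), hc⟩
    have hbu' : ¬ Commute u b := fun hc => hbu ⟨hb.1, fun h => hxu (h ▸ hb.2.2), hc⟩
    have huv : ¬ Commute u v := fun hc => hn (hcm x hx u hu v hv hxu hxv hc)
    have e1 : R (v, x) (v, u) := htr _ (v, a) _
      (hcm v hv x hx a ha.1 (fun h => hxv h.symm) hav' ha.2.2)
      (hcm v hv a ha.1 u hu hav' (fun h => huv h.symm) hau.2.2.symm)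
    have e2 : R (u, x) (u, v) := htr _ (u, b) _
      (hcm u hu x hx b hb.1 (fun h => hxu h.symm) hbu' hb.2.2)
      (hcm u hu b hb.1 v hv hbu' huv hbv.2.2.symm)
    exact hn (htr _ _ _ (hsw x hx u hu hxu) <| htr _ _ _ e2 <|
      htr _ _ _ (hsw u hu v hv huv) <| htr _ _ _ (hsy _ _ e1)
        (hsw v hv x hx (fun h => hxv h.symm)))
  -- the smaller common neighbourhood is empty, against connectedness
  have key : ∀ u ∈ D, ∀ v ∈ D, ¬ Commute x u → ¬ Commute x v → ¬ R (x, u) (x, v) →
      (commSet D x ∩ commSet D u).ncard ≤ (commSet D x ∩ commSet D v).ncard → False := by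
    intro u hu v hv hxu hxv hn hle
    have hempty : ∀ u' ∈ D, ¬ Commute x u' → R (x, u) (x, u') →
        ∀ a ∈ commSet D x, ¬ Commute a u' := by
      intro u' hu' hxu' hru a ha hau
      -- then every member of `D_x` commutes with `v`
      have hall : commSet D x ⊆ commSet D v := by
        intro b hb
        obtain ⟨g, hg, rfl⟩ := transitive_on_commSet hsol hD hx ha hb
        have hgx : g * x * g⁻¹ = x := by
          have hc : g * x = x * g :=
            Subgroup.mem_centralizer_singleton_iff.1 (closure_commSet_le_centralizer x hg)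
          rw [hc, mul_assoc, mul_inv_cancel, mul_one]
        have hxg : ¬ Commute x (g * u' * g⁻¹) := by
          intro hc
          rw [← hgx] at hc
          exact hxu' ((Commute.conj_iff g).1 hc)
        have hr : R (x, u) (x, g * u' * g⁻¹) := htr _ _ _ hru ⟨g, hgx, rfl⟩
        refine hincl _ (conj_mem hD g hu') v hv hxg hxv (fun h => hn (htr _ _ _ hr h)) ?_
          ⟨hb, hb.1, ?_, ((Commute.conj_iff g).2 hau).symm⟩
        · rw [← hmu _ _ hr]; exact hle
        · intro h
          exact hxg (h ▸ hb.2.2)
      have heq := Set.eq_of_subset_of_ncard_le hall (commSet_ncard_eq hD hv hx).le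
        (Set.toFinite _)
      exact hxv (eq_of_commSet_eq hsol hD hx hv hne heq.symm ▸ Commute.refl x)
    have hchain : ∀ w ∈ commClass D u, w ∈ D ∧ ¬ Commute x w ∧ R (x, u) (x, w) := by
      intro w hw
      induction hw with
      | refl => exact ⟨hu, hxu, hrefl _⟩
      | @tail p q _ e ih =>
        have hxq : ¬ Commute x q := by
          intro hc
          by_cases hqx : q = x
          · exact ih.2.1 (hqx ▸ e.2.2.symm)
          · exact hempty p ih.1 ih.2.1 ih.2.2 q ⟨e.2.1, hqx, hc⟩ e.2.2.symm
        exact ⟨e.2.1, hxq, htr _ _ _ ih.2.2 (hcm x hx p e.1 q e.2.1 ih.2.1 hxq e.2.2)⟩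
    exact (hchain x (mem_commClass hD hperf hu hx)).2.1 (Commute.refl x)
  rcases le_total (commSet D x ∩ commSet D y).ncard (commSet D x ∩ commSet D y').ncard with h | h
  · exact key y hy y' hy' hxy hxy' hnR h
  · exact key y' hy' y hy hxy' hxy (fun r => hnR (hsy _ _ r)) h

end CfsgLib.FischerTransitivity
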