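import Mathlib

/-!
A finite group in which every element `q` satisfies `q ^ 2 = 1` or `q ^ 3 = 1` is solvable
(elementary proof, no character theory).
-/

set_option autoImplicit false

namespace CfsgLib.FischerTransitivity

variable {Q : Type*} [Group Q]

theorem inv_eq_self_of_sq {a : Q} (ha : a ^ 2 = 1) : a⁻¹ = a :=
  inv_eq_of_mul_eq_one_right (by rwa [← pow_two])

theorem commute_of_sq {a b : Q} (ha : a ^ 2 = 1) (hb : b ^ 2 = 1) (hab : (a * b) ^ 2 = 1) :
    Commute a b := by
  show a * b = b * a
  rw [← inv_eq_self_of_sq hab, mul_inv_rev, inv_eq_self_of_sq ha, inv_eq_self_of_sq hb]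

theorem involution_centralizer_small (hQ : ∀ q : Q, q ^ 2 = 1 ∨ q ^ 3 = 1) {s t : Q}
    (ht : t ^ 2 = 1) (hs : s ^ 2 = 1) (hst : ¬ Commute s t) {u : Q} (hu : Commute u t) :
    u = 1 ∨ u = t := by
  have ht1 : t ≠ 1 := fun h => hst (h ▸ Commute.one_right s)
  have braid : ∀ a : Q, a ^ 2 = 1 → ¬ Commute s a → s * a * s = a * s * a := by
    intro a ha hna
    have hai : a⁻¹ = a := inv_eq_self_of_sq ha
    have hsi : s⁻¹ = s := inv_eq_self_of_sq hs
    rcases hQ (s * a) with h | h
    · exact absurd (commute_of_sq hs ha h) hna
    · have : (s * a * s) * (a * s * a) = 1 := by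
        have e : (s * a * s) * (a * s * a) = (s * a) ^ 3 := by simp [pow_succ, mul_assoc]
        rw [e, h]
      rw [eq_inv_of_mul_eq_one_left this]
      simp only [mul_inv_rev, hai, hsi, mul_assoc]
  rcases hQ u with hu2 | hu3
  · -- `u` is an involution commuting with `t`
    by_contra hcon
    push Not at hcon
    obtain ⟨hu1, hut⟩ := hcon
    have key : ∀ v : Q, v ^ 2 = 1 → v ≠ 1 → Commute v t → ¬ Commute s v := by
      intro v hv hv1 hvt hsv
      have hc : Commute v (s * t) := Commute.mul_right hsv.symm hvt
      have h3 : (s * t) ^ 3 = 1 := by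
        rcases hQ (s * t) with h | h
        · exact absurd (commute_of_sq hs ht h) hst
        · exact h
      rcases hQ (v * (s * t)) with h | h
      · rw [hc.mul_pow, hv, one_mul] at h
        have : s * t = 1 := by
          calc s * t = (s * t) ^ 3 * ((s * t) ^ 2)⁻¹ := by group
          _ = 1 := by rw [h3, h]; group
        exact hst (by
          rw [eq_inv_of_mul_eq_one_left this]
          exact Commute.inv_left (Commute.refl t))
      · rw [hc.mul_pow, h3, mul_one, pow_succ, hv, one_mul] at h
        exact hv1 h
    have htu2 : (t * u) ^ 2 = 1 := by rw [hu.symm.mul_pow, ht, hu2, one_mul]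
    have htu1 : t * u ≠ 1 := fun h => hut (by
      have e := eq_inv_of_mul_eq_one_right h
      rw [inv_eq_self_of_sq ht] at e; exact e)
    have n1 := key u hu2 hu1 hu
    have n2 := key (t * u) htu2 htu1 (Commute.mul_left (Commute.refl t) hu)
    have b1 := braid u hu2 n1
    have b2 := braid t ht hst
    have b3 := braid (t * u) htu2 n2
    have hs' : s * s = 1 := by rwa [pow_two] at hs
    have ht' : t * t = 1 := by rwa [pow_two] at ht
    have hu' : u * u = 1 := by rwa [pow_two] at hu2
    have hutc : u * t = t * u := hu
    have e1 : s * (t * u) * s = (s * t * s) * (s * u * s) := by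
      simp only [mul_assoc]; rw [← mul_assoc s s, hs', one_mul]
    rw [b2, b1, b3] at e1
    -- `t u s t u = t s t u s u`
    have e2 : u * s * (t * u) = s * (t * u) * (s * u) := by
      have : t * (u * s * (t * u)) = t * (s * (t * u) * (s * u)) := by
        simpa only [mul_assoc] using e1
      exact mul_left_cancel this
    have e3 : u * s * t = t * u * s * (t * u) := by
      have : u * s * t * u = s * (t * u) * s * u := by
        simpa only [mul_assoc] using e2
      rw [← b3]
      exact mul_right_cancel this
    have e4 : u * (s * t) = u * (t * s * t * u) := by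
      rw [← mul_assoc, e3, ← hutc]; simp only [mul_assoc]; rw [hutc]
    have e5 : s * t = s * t * s * u := by rw [b2]; exact mul_left_cancel e4
    have e6 : s * u = 1 := by
      have : s * t * (s * u) = s * t * 1 := by rw [mul_one, ← mul_assoc, ← e5]
      exact mul_left_cancel this
    exact n1 ((eq_inv_of_mul_eq_one_left e6).symm ▸ Commute.inv_left (Commute.refl u))
  · left
    rcases hQ (u * t) with h | h
    · rw [hu.mul_pow, ht, mul_one] at h
      calc u = u ^ 3 * (u ^ 2)⁻¹ := by group
      _ = 1 := by rw [hu3, h]; group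
    · rw [hu.mul_pow, hu3, one_mul, pow_succ, ht, one_mul] at h
      exact absurd h ht1

theorem isSolvable_of_sq_or_cube [Finite Q] (hQ : ∀ q : Q, q ^ 2 = 1 ∨ q ^ 3 = 1) :
    Group.IsSolvable Q := by
  classical
  by_cases hc : ∀ s t : Q, s ^ 2 = 1 → t ^ 2 = 1 → Commute s t
  · let E : Subgroup Q :=
      { carrier := {q | q ^ 2 = 1}
        one_mem' := one_pow 2
        mul_mem' := fun {a b} ha hb => by
          show (a * b) ^ 2 = 1
          rw [(hc a b ha hb).mul_pow, show a ^ 2 = 1 from ha, show b ^ 2 = 1 from hb, one_mul]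
        inv_mem' := fun {a} ha => by
          show a⁻¹ ^ 2 = 1
          rw [inv_pow, show a ^ 2 = 1 from ha, inv_one] }
    have hn : E.Normal := ⟨fun n (hn : n ^ 2 = 1) g => by
      show (g * n * g⁻¹) ^ 2 = 1
      rw [conj_pow, hn, mul_one, mul_inv_cancel]⟩
    have := hn
    have : Group.IsSolvable E := Group.isSolvable_of_comm (fun a b => Subtype.ext (hc a b a.2 b.2))
    have : Fact (Nat.Prime 3) := ⟨Nat.prime_three⟩
    have h3 : IsPGroup 3 (Q ⧸ E) := by
      intro q
      refine ⟨1, ?_⟩
      induction q using QuotientGroup.induction_on with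
      | H a =>
        rw [pow_one, ← QuotientGroup.mk_pow]
        rcases hQ a with h | h
        · rw [QuotientGroup.eq_one_iff]
          show (a ^ 3) ^ 2 = 1
          rw [← pow_mul, show 3 * 2 = 2 * 3 from rfl, pow_mul, h, one_pow]
        · rw [h]; rfl
    have := h3.isNilpotent
    have : Group.IsSolvable (Q ⧸ E) := inferInstance
    exact Group.isSolvable_of_ker_le_range E.subtype (QuotientGroup.mk' E) (by simp)
  · push Not at hc
    obtain ⟨s, t, hs, ht, hst⟩ := hc
    have : Fact (Nat.Prime 2) := ⟨Nat.prime_two⟩
    have : Fact (Nat.Prime 3) := ⟨Nat.prime_three⟩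
    -- a Sylow 2-subgroup has order two
    have hsyl : ∀ P : Sylow 2 Q, t ∈ P → ∀ a ∈ P, a = 1 ∨ a = t := by
      intro P htP a ha
      have hnt : Nontrivial (P : Subgroup Q) :=
        ⟨⟨1, one_mem _⟩, ⟨t, htP⟩, fun h => hst (by
          rw [← show (1 : Q) = t from congrArg Subtype.val h]; exact Commute.one_right s)⟩
      obtain ⟨z, hz, hz1⟩ := (Subgroup.nontrivial_iff_exists_ne_one _).1 P.isPGroup'.center_nontrivial
      have hzc : ∀ b : (P : Subgroup Q), b * z = z * b := Subgroup.mem_center_iff.1 hz
      rcases involution_centralizer_small hQ ht hs hst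
          (u := (z : Q)) (congrArg Subtype.val (hzc ⟨t, htP⟩)).symm with h | h
      · exact absurd (Subtype.ext h) hz1
      · apply involution_centralizer_small hQ ht hs hst
        have := congrArg Subtype.val (hzc ⟨a, ha⟩)
        simp only [Subgroup.coe_mul, h] at this
        exact this
    have ht1 : t ≠ 1 := fun h => hst (h ▸ Commute.one_right s)
    have hot : orderOf t = 2 := orderOf_eq_prime ht ht1
    have hzp : IsPGroup 2 (Subgroup.zpowers t) := by
      apply IsPGroup.of_card (n := 1)
      rw [Nat.card_zpowers, hot, pow_one]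
    obtain ⟨P, hP⟩ := hzp.exists_le_sylow
    have htP : t ∈ P := hP (Subgroup.mem_zpowers t)
    have hPeq : (P : Subgroup Q) = Subgroup.zpowers t := by
      refine le_antisymm (fun a ha => ?_) hP
      rcases hsyl P htP a ha with h | h <;> subst h
      · exact one_mem _
      · exact Subgroup.mem_zpowers _
    have hP2 : Nat.card (P : Subgroup Q) = 2 := by rw [hPeq, Nat.card_zpowers, hot]
    obtain ⟨R⟩ := (inferInstance : Nonempty (Sylow 3 Q))
    have hidx : (R : Subgroup Q).index = 2 := by
      have h2 : ¬ 2 ∣ (P : Subgroup Q).index := P.not_dvd_index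
      have h3 : ¬ 3 ∣ (R : Subgroup Q).index := R.not_dvd_index
      have e1 := (R : Subgroup Q).card_mul_index
      have e2 := (P : Subgroup Q).card_mul_index
      have hpr : ∀ p : ℕ, p.Prime → p ∣ Nat.card Q → p = 2 ∨ p = 3 := by
        intro p hp hdvd
        have := Fact.mk hp
        obtain ⟨g, hg⟩ := exists_prime_orderOf_dvd_card' p hdvd
        rcases hQ g with h | h
        · left
          have := orderOf_dvd_of_pow_eq_one h
          rw [hg] at this
          exact (Nat.prime_dvd_prime_iff_eq hp Nat.prime_two).1 this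
        · right
          have := orderOf_dvd_of_pow_eq_one h
          rw [hg] at this
          exact (Nat.prime_dvd_prime_iff_eq hp Nat.prime_three).1 this
      obtain ⟨n, hn⟩ := IsPGroup.iff_card.1 R.isPGroup'
      have hd2 : (R : Subgroup Q).index ∣ 2 := by
        have hdQ : (R : Subgroup Q).index ∣ Nat.card Q := Subgroup.index_dvd_card _
        have hne : (R : Subgroup Q).index ≠ 0 := Subgroup.index_ne_zero_of_finite
        have : (R : Subgroup Q).index = 2 ^ (R : Subgroup Q).index.primeFactorsList.length :=
          Nat.eq_prime_pow_of_unique_prime_dvd hne (fun {p} hp hdvd => by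
            rcases hpr p hp (hdvd.trans hdQ) with h | h
            · exact h
            · exact absurd (h ▸ hdvd) h3)
        rw [this] at hdQ ⊢
        generalize (R : Subgroup Q).index.primeFactorsList.length = m at hdQ ⊢
        rcases m with - | - | m
        · simp
        · simp
        · exfalso
          rw [← e2, hP2] at hdQ
          apply h2
          have : 2 * 2 ∣ 2 * (P : Subgroup Q).index :=
            dvd_trans ⟨2 ^ m, by ring⟩ hdQ
          exact Nat.dvd_of_mul_dvd_mul_left (by norm_num) this
      rcases (Nat.dvd_prime Nat.prime_two).1 hd2 with h | h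
      · exfalso
        have h21 : 2 ∣ Nat.card Q := hot ▸ orderOf_dvd_natCard t
        rw [← e1, h, mul_one, hn] at h21
        have := Nat.prime_two.dvd_of_dvd_pow h21
        norm_num at this
      · exact h
    have : (R : Subgroup Q).Normal := Subgroup.normal_of_index_eq_two hidx
    have := R.isPGroup'.isNilpotent
    have : Group.IsSolvable (R : Subgroup Q) := inferInstance
    have : Group.IsSolvable (Q ⧸ (R : Subgroup Q)) := by
      have hc2 : Nat.card (Q ⧸ (R : Subgroup Q)) = 2 := hidx
      have : IsCyclic (Q ⧸ (R : Subgroup Q)) := isCyclic_of_prime_card hc2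
      exact Group.isSolvable_of_comm (fun a b => mul_comm' a b)
    exact Group.isSolvable_of_ker_le_range (R : Subgroup Q).subtype (QuotientGroup.mk' (R : Subgroup Q)) (by simp)

end CfsgLib.FischerTransitivity
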