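import Mathlib
import Cfsg.Prelude.Def_SporadicB
import Cfsg.Agent.FischerTransitivity.SqOrCube

/-!
Basic facts about a generating conjugacy class `D` of 3-transpositions and the block lemma:
a conjugation-invariant partition of `D` (given as the fibres of `f`) is trivial when the group has
no nontrivial solvable normal subgroup and the partition satisfies the two closure conditions of
`block_trivial`.
-/

set_option autoImplicit false

namespace CfsgLib.FischerTransitivity

variable {G : Type*} [Group G]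

/-- The members of `D` other than `x` that commute with `x`. -/
def commSet (D : Set G) (x : G) : Set G := {y | y ∈ D ∧ y ≠ x ∧ Commute x y}

section Class

variable {D : Set G} (hD : Cfsg.IsThreeTranspositionClass D)
include hD

theorem sq_one {d : G} (hd : d ∈ D) : d * d = 1 := by
  have := hD.1.1 d hd
  rw [← pow_two, ← this]
  exact pow_orderOf_eq_one d

theorem inv_self {d : G} (hd : d ∈ D) : d⁻¹ = d :=
  inv_eq_of_mul_eq_one_right (sq_one hD hd)

theorem conj_mem {d : G} (g : G) (hd : d ∈ D) : g * d * g⁻¹ ∈ D := by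
  obtain ⟨e, _, he⟩ := hD.2.1
  rw [he] at hd ⊢
  rw [conjugatesOf, Set.mem_setOf_eq, isConj_iff] at hd ⊢
  obtain ⟨c, rfl⟩ := hd
  exact ⟨g * c, by group⟩

theorem exists_conj {a b : G} (ha : a ∈ D) (hb : b ∈ D) : ∃ g : G, g * a * g⁻¹ = b := by
  obtain ⟨e, _, he⟩ := hD.2.1
  rw [he] at ha hb
  rw [conjugatesOf, Set.mem_setOf_eq] at ha hb
  exact isConj_iff.1 (ha.symm.trans hb)

/-- Conjugation by a member of `D` written with inverses. -/
theorem conj_eq {d : G} (hd : d ∈ D) (a : G) : d * a * d⁻¹ = d * a * d := by rw [inv_self hD hd]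

theorem braid {a b : G} (ha : a ∈ D) (hb : b ∈ D) (hab : ¬ Commute a b) :
    a * b * a = b * a * b := by
  rcases hD.1.2 a ha b hb with h | h
  · exact absurd (commute_of_sq (by rw [pow_two, sq_one hD ha]) (by rw [pow_two, sq_one hD hb]) h) hab
  · have e : (a * b * a) * (b * a * b) = 1 := by
      rw [← h]; simp only [pow_succ, pow_zero, one_mul, mul_assoc]
    rw [eq_inv_of_mul_eq_one_left e]
    simp only [mul_inv_rev, inv_self hD ha, inv_self hD hb, mul_assoc]

/-- Non-commuting members are conjugate by their product. -/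
theorem conj_mul_eq {a b : G} (ha : a ∈ D) (hb : b ∈ D) (hab : ¬ Commute a b) :
    (a * b) * a * (a * b)⁻¹ = b := by
  have hba := braid hD ha hb hab
  calc (a * b) * a * (a * b)⁻¹ = (a * b * a) * b⁻¹ * a⁻¹ := by group
  _ = b * (a * (b * b⁻¹) * a⁻¹) := by rw [hba]; group
  _ = b := by group

theorem third_mem {a b : G} (ha : a ∈ D) (hb : b ∈ D) : a * b * a ∈ D := by
  rw [← conj_eq hD ha]; exact conj_mem hD a hb

theorem conj_commSet (x g : G) :
    (fun a => g * a * g⁻¹) '' commSet D x = commSet D (g * x * g⁻¹) := by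
  ext y
  constructor
  · rintro ⟨a, ⟨haD, hax, hc⟩, rfl⟩
    refine ⟨conj_mem hD g haD, fun h => hax ?_, (Commute.conj_iff g).2 hc⟩
    exact mul_left_cancel (mul_right_cancel h)
  · rintro ⟨hyD, hyx, hc⟩
    refine ⟨g⁻¹ * y * g, ⟨?_, ?_, ?_⟩, by group⟩
    · simpa only [inv_inv] using conj_mem hD g⁻¹ hyD
    · intro h; apply hyx; rw [← h]; group
    · rw [← Commute.conj_iff g]
      simpa [mul_assoc] using hc

theorem commSet_ncard_eq {x y : G} (hx : x ∈ D) (hy : y ∈ D) :
    (commSet D x).ncard = (commSet D y).ncard := by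
  obtain ⟨g, rfl⟩ := exists_conj hD hx hy
  rw [← conj_commSet hD x g,
    Set.ncard_image_of_injective _ (fun a b h => mul_left_cancel (mul_right_cancel h))]

omit hD in
theorem mem_commSet_comm {x y : G} (hx : x ∈ D) (hy : y ∈ commSet D x) : x ∈ commSet D y :=
  ⟨hx, fun h => hy.2.1 h.symm, hy.2.2.symm⟩

/-- A subgroup normalised by every member of `D` is normal. -/
theorem normal_of_conj_mem (M : Subgroup G)
    (h : ∀ d ∈ D, ∀ m ∈ M, d * m * d⁻¹ ∈ M) : M.Normal := by
  have hall : ∀ g : G, ∀ m ∈ M, g * m * g⁻¹ ∈ M := by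
    intro g
    have hg : g ∈ Subgroup.closure D := by rw [hD.2.2]; exact Subgroup.mem_top g
    induction hg using Subgroup.closure_induction'' with
    | one => intro m hm; simpa using hm
    | mem d hd => exact h d hd
    | inv_mem d hd => rw [inv_self hD hd]; exact h d hd
    | mul a b _ _ iha ihb =>
      intro m hm
      have e : a * b * m * (a * b)⁻¹ = a * (b * m * b⁻¹) * a⁻¹ := by group
      rw [e]; exact iha _ (ihb m hm)
  exact ⟨fun n hn g => hall g n hn⟩

end Class

theorem eq_bot_of_isSolvable_normal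
    (hsol : ∀ N : Subgroup G, N.Normal → Group.IsSolvable ↥N → N = ⊥) {N : Subgroup G}
    (hN : N.Normal) (hc : ∀ a ∈ N, ∀ b ∈ N, a * b = b * a) : N = ⊥ :=
  hsol N hN (Group.isSolvable_of_comm (fun a b => Subtype.ext (hc a a.2 b b.2)))

/-- The join of two normal solvable subgroups is solvable. -/
theorem isSolvable_sup (H K : Subgroup G) (hH : H.Normal) (sH : Group.IsSolvable ↥H)
    (sK : Group.IsSolvable ↥K) : Group.IsSolvable ↥(H ⊔ K) := by
  have := hH; have := sH; have := sK
  have hle : (H ⊔ K).map (QuotientGroup.mk' H) ≤ K.map (QuotientGroup.mk' H) := by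
    rw [Subgroup.map_sup, QuotientGroup.map_mk'_self, bot_sup_eq]
  let φ : ↥(H ⊔ K) →* ↥(K.map (QuotientGroup.mk' H)) :=
    ((QuotientGroup.mk' H).comp (H ⊔ K).subtype).codRestrict _
      (fun a => hle (Subgroup.mem_map_of_mem _ a.2))
  have : Group.IsSolvable ↥(K.map (QuotientGroup.mk' H)) :=
    Group.isSolvable_of_surjective (f := (QuotientGroup.mk' H).subgroupMap K)
      (MonoidHom.subgroupMap_surjective _ K)
  refine Group.isSolvable_of_ker_le_range (Subgroup.inclusion (le_sup_left (a := H) (b := K))) φ ?_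
  intro a ha
  have h1 : ((φ a : ↥(K.map (QuotientGroup.mk' H))) : G ⧸ H) = 1 := by
    rw [MonoidHom.mem_ker] at ha; rw [ha]; rfl
  have h2 : (a : G) ∈ H := (QuotientGroup.eq_one_iff (a : G)).1 h1
  exact ⟨⟨(a : G), h2⟩, rfl⟩

section Block

variable [Finite G] {D : Set G} (hD : Cfsg.IsThreeTranspositionClass D)
variable {α : Type*} (f : G → α)

/-- The fibre of `f` in `D` through `x`. -/
def blk (D : Set G) (f : G → α) (x : G) : Set G := {u | u ∈ D ∧ f u = f x}

/-- The subgroup generated by the products of two members of one fibre. -/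
def blkGroup (D : Set G) (f : G → α) (x : G) : Subgroup G :=
  Subgroup.closure {k | ∃ u ∈ blk D f x, ∃ v ∈ blk D f x, k = u * v}

variable (hinv : ∀ g : G, ∀ u ∈ D, ∀ v ∈ D, f u = f v → f (g * u * g⁻¹) = f (g * v * g⁻¹))
variable (h1 : ∀ x ∈ D, ∀ v ∈ D, ∀ z ∈ D,
  f v = f x → f z ≠ f x → Commute x z → Commute v z)

include hD hinv h1

theorem mul_fixes {x u v : G} (hx : x ∈ D) (hu : u ∈ blk D f x) (hv : v ∈ blk D f x) :
    ∀ z ∈ D, f ((u * v) * z * (u * v)⁻¹) = f z := by
  intro z hz
  obtain ⟨huD, huf⟩ := hu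
  obtain ⟨hvD, hvf⟩ := hv
  have e : (u * v) * z * (u * v)⁻¹ = u * (v * z * v) * u⁻¹ := by
    rw [mul_inv_rev, inv_self hD hvD]; group
  rw [e]
  by_cases hzx : f z = f x
  · have a1 : f (v * z * v⁻¹) = f (v * v * v⁻¹) := hinv v z hz v hvD (hzx.trans hvf.symm)
    rw [conj_eq hD hvD, conj_eq hD hvD, sq_one hD hvD, one_mul] at a1
    have a2 : f (u * (v * z * v) * u⁻¹) = f (u * u * u⁻¹) :=
      hinv u _ (third_mem hD hvD hz) u huD (a1.trans (hvf.trans huf.symm))
    rw [conj_eq hD huD u, sq_one hD huD, one_mul] at a2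
    rw [a2, huf, hzx]
  by_cases hc : Commute x z
  · have cu : Commute u z := h1 x hx u huD z hz huf hzx hc
    have cv : Commute v z := h1 x hx v hvD z hz hvf hzx hc
    rw [cv.eq, mul_assoc z, sq_one hD hvD, mul_one, cu.eq, mul_assoc, mul_inv_cancel, mul_one]
  · have nc : ∀ w ∈ blk D f x, ¬ Commute w z := fun w hw hwz =>
      hc (h1 w hw.1 x hx z hz hw.2.symm (fun h => hzx (h.trans hw.2)) hwz)
    have bu := braid hD huD hz (nc u ⟨huD, huf⟩)
    have bv := braid hD hvD hz (nc v ⟨hvD, hvf⟩)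
    have a1 : f (z * v * z⁻¹) = f (z * u * z⁻¹) := hinv z v hvD u huD (hvf.trans huf.symm)
    rw [conj_eq hD hz, conj_eq hD hz, ← bu, ← bv] at a1
    have a2 := hinv u _ (third_mem hD hvD hz) _ (third_mem hD huD hz) a1
    rw [a2]
    congr 1
    rw [inv_self hD huD]
    calc u * (u * z * u) * u = (u * u) * z * (u * u) := by group
    _ = z := by rw [sq_one hD huD, one_mul, mul_one]

omit hinv h1 [Finite G] in
theorem fixes_mul {a b : G} (ha : ∀ z ∈ D, f (a * z * a⁻¹) = f z)
    (hb : ∀ z ∈ D, f (b * z * b⁻¹) = f z) : ∀ z ∈ D, f ((a * b) * z * (a * b)⁻¹) = f z := by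
  intro z hz
  have e : (a * b) * z * (a * b)⁻¹ = a * (b * z * b⁻¹) * a⁻¹ := by group
  rw [e, ha _ (conj_mem hD b hz), hb z hz]

omit hinv h1 [Finite G] in
theorem fixes_inv {a : G} (ha : ∀ z ∈ D, f (a * z * a⁻¹) = f z) :
    ∀ z ∈ D, f (a⁻¹ * z * a⁻¹⁻¹) = f z := by
  intro z hz
  have h := ha _ (conj_mem hD a⁻¹ hz)
  rw [← h]
  congr 1
  group

omit hinv h1 [Finite G] in
/-- The permutations fixing every fibre form a subgroup. -/
def fixSub : Subgroup G where
  carrier := {g | ∀ z ∈ D, f (g * z * g⁻¹) = f z}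
  one_mem' := fun z _ => by simp
  mul_mem' := fun ha hb => fixes_mul hD f ha hb
  inv_mem' := fun ha => fixes_inv hD f ha

omit h1 in
theorem fixSub_normal : (fixSub hD f).Normal := by
  constructor
  intro n hn g z hz
  have hn' : ∀ z ∈ D, f (n * z * n⁻¹) = f z := hn
  have hm := conj_mem hD g⁻¹ hz
  have h := hinv g _ (conj_mem hD n hm) _ hm (hn' _ hm)
  have e : g * (g⁻¹ * z * g⁻¹⁻¹) * g⁻¹ = z := by group
  rw [e] at h
  rw [← h]
  congr 1
  group

theorem blkGroup_le_fixSub {x : G} (hx : x ∈ D) : blkGroup D f x ≤ fixSub hD f := by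
  rw [blkGroup, Subgroup.closure_le]
  rintro k ⟨u, hu, v, hv, rfl⟩
  exact mul_fixes hD f hinv h1 hx hu hv

omit h1 [Finite G] in
theorem conj_blk {x g w : G} (hx : x ∈ D) (hw : w ∈ blk D f x) :
    g * w * g⁻¹ ∈ blk D f (g * x * g⁻¹) :=
  ⟨conj_mem hD g hw.1, hinv g w hw.1 x hx hw.2⟩

omit h1 [Finite G] in
theorem conj_blkGroup {x g k : G} (hx : x ∈ D) (hk : k ∈ blkGroup D f x) :
    g * k * g⁻¹ ∈ blkGroup D f (g * x * g⁻¹) := by
  induction hk using Subgroup.closure_induction with
  | one => simp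
  | mem k hk =>
    obtain ⟨u, hu, v, hv, rfl⟩ := hk
    apply Subgroup.subset_closure
    exact ⟨_, conj_blk hD f hinv hx hu, _, conj_blk hD f hinv hx hv, by group⟩
  | mul a b _ _ iha ihb =>
    have e : g * (a * b) * g⁻¹ = (g * a * g⁻¹) * (g * b * g⁻¹) := by group
    rw [e]; exact mul_mem iha ihb
  | inv a _ iha =>
    have e : g * a⁻¹ * g⁻¹ = (g * a * g⁻¹)⁻¹ := by group
    rw [e]; exact inv_mem iha

omit hD hinv h1 [Finite G] in
theorem blkGroup_congr {x y : G} (h : f x = f y) : blkGroup D f x = blkGroup D f y := by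
  unfold blkGroup blk; rw [h]

/-- If all the groups `blkGroup` are solvable, the fibres are singletons. -/
theorem block_trivial_of_solvable
    (hsol : ∀ N : Subgroup G, N.Normal → Group.IsSolvable ↥N → N = ⊥)
    (hs : ∀ x ∈ D, Group.IsSolvable ↥(blkGroup D f x)) :
    ∀ x ∈ D, ∀ v ∈ D, f v = f x → v = x := by
  classical
  let F := fixSub hD f
  have hF : F.Normal := fixSub_normal hD f hinv
  have hnorm : ∀ x ∈ D, ((blkGroup D f x).subgroupOf F).Normal := by
    intro x hx
    refine ⟨fun n hn g => ?_⟩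
    rw [Subgroup.mem_subgroupOf] at hn ⊢
    have h := conj_blkGroup hD f hinv (g := (g : G)) hx hn
    rw [blkGroup_congr f ((g.2 : ∀ z ∈ D, _) x hx)] at h
    simpa using h
  -- the join of the solvable normal subgroups of `F`
  have key : ∀ S : Finset G, (∀ x ∈ S, x ∈ D) → ∃ N : Subgroup F, N.Normal ∧
      Group.IsSolvable ↥N ∧ ∀ x ∈ S, (blkGroup D f x).subgroupOf F ≤ N := by
    intro S
    induction S using Finset.induction_on with
    | empty =>
      intro _
      exact ⟨⊥, inferInstance, inferInstance, fun x hx => absurd hx (Finset.notMem_empty x)⟩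
    | insert a S _ ih =>
      intro hS
      obtain ⟨N, hNn, hNs, hN⟩ := ih (fun x hx => hS x (Finset.mem_insert_of_mem hx))
      have haD := hS a (Finset.mem_insert_self a S)
      have := hNn
      have := hnorm a haD
      have := hs a haD
      have sK : Group.IsSolvable ↥((blkGroup D f a).subgroupOf F) :=
        Group.isSolvable_of_surjective
          (f := (Subgroup.subgroupOfEquivOfLe (blkGroup_le_fixSub hD f hinv h1 haD)).symm.toMonoidHom)
          (MulEquiv.surjective _)
      refine ⟨N ⊔ (blkGroup D f a).subgroupOf F, inferInstance,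
        isSolvable_sup _ _ hNn hNs sK, fun x hx => ?_⟩
      rcases Finset.mem_insert.1 hx with rfl | h
      · exact le_sup_right
      · exact (hN x h).trans le_sup_left
  obtain ⟨N, _, hNs, hN⟩ := key D.toFinite.toFinset (fun x hx => (Set.Finite.mem_toFinset _).1 hx)
  let M : Subgroup G := Subgroup.closure (⋃ x ∈ D, (blkGroup D f x : Set G))
  have hMle : M ≤ N.map F.subtype := by
    refine (Subgroup.closure_le _).2 ?_
    intro k hk
    obtain ⟨x, hx, hk⟩ := Set.mem_iUnion₂.1 hk
    exact ⟨⟨k, blkGroup_le_fixSub hD f hinv h1 hx hk⟩,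
      hN x ((Set.Finite.mem_toFinset _).2 hx) (by rwa [Subgroup.mem_subgroupOf]), rfl⟩
  have hMn : M.Normal := by
    refine normal_of_conj_mem hD M (fun d hd m hm => ?_)
    induction hm using Subgroup.closure_induction with
    | one => simp
    | mem k hk =>
      obtain ⟨x, hx, hk⟩ := Set.mem_iUnion₂.1 hk
      exact Subgroup.subset_closure
        (Set.mem_iUnion₂.2 ⟨_, conj_mem hD d hx, conj_blkGroup hD f hinv hx hk⟩)
    | mul a b _ _ iha ihb =>
      have e : d * (a * b) * d⁻¹ = (d * a * d⁻¹) * (d * b * d⁻¹) := by group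
      rw [e]; exact mul_mem iha ihb
    | inv a _ iha =>
      have e : d * a⁻¹ * d⁻¹ = (d * a * d⁻¹)⁻¹ := by group
      rw [e]; exact inv_mem iha
  have : Group.IsSolvable ↥(N.map F.subtype) :=
    Group.isSolvable_of_surjective (f := F.subtype.subgroupMap N)
      (MonoidHom.subgroupMap_surjective _ N)
  have hMs : Group.IsSolvable ↥M :=
    Group.isSolvable_of_isSolvable_injective (Subgroup.inclusion_injective hMle)
  have hM := hsol M hMn hMs
  intro x hx v hv hvx
  have : v * x ∈ M := Subgroup.subset_closure (Set.mem_iUnion₂.2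
    ⟨x, hx, Subgroup.subset_closure ⟨v, ⟨hv, hvx⟩, x, ⟨hx, rfl⟩, rfl⟩⟩)
  rw [hM, Subgroup.mem_bot] at this
  rw [eq_inv_of_mul_eq_one_left this, inv_self hD hx]

omit hD hinv [Finite G] in
/-- Members of two distinct, commuting fibres generate commuting groups. -/
theorem blkGroup_commute {x e : G} (hx : x ∈ D) (he : e ∈ D) (hne : f e ≠ f x)
    (hc : Commute x e) {a b : G} (ha : a ∈ blkGroup D f x) (hb : b ∈ blkGroup D f e) :
    Commute a b := by
  have hgen : ∀ u ∈ blk D f x, ∀ w ∈ blk D f e, Commute u w := by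
    intro u hu w hw
    have cu : Commute u e := h1 x hx u hu.1 e he hu.2 hne hc
    exact (h1 e he w hw.1 u hu.1 hw.2 (fun h => hne (by rw [← h, hu.2])) cu.symm).symm
  have : blkGroup D f x ≤ Subgroup.centralizer (blkGroup D f e : Set G) := by
    rw [blkGroup, Subgroup.closure_le]
    rintro k ⟨u, hu, v, hv, rfl⟩
    rw [SetLike.mem_coe, Subgroup.mem_centralizer_iff]
    intro m hm
    induction hm using Subgroup.closure_induction with
    | one => simp
    | mem k hk =>
      obtain ⟨p, hp, q, hq, rfl⟩ := hk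
      exact ((Commute.mul_left (hgen u hu p hp) (hgen v hv p hp)).mul_right
        (Commute.mul_left (hgen u hu q hq) (hgen v hv q hq))).symm
    | mul a b _ _ iha ihb => exact ((Commute.mul_left iha ihb : Commute (a * b) (u * v)))
    | inv a _ iha => exact (Commute.inv_left iha : Commute a⁻¹ (u * v))
  exact (Subgroup.mem_centralizer_iff.1 (this ha) b hb).symm

/-- The transfer of a fibre onto a non-commuting one through a third one. -/
theorem exists_mul_conj_eq {x z c : G} (hx : x ∈ D) (hz : z ∈ D) (hne : f z ≠ f x)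
    (hc : ¬ Commute x z) (hcB : c ∈ blk D f z) :
    ∃ u ∈ blk D f x, c = (x * u) * z * (x * u)⁻¹ := by
  have nc : ∀ w ∈ blk D f x, ¬ Commute w z := fun w hw hwz =>
    hc (h1 w hw.1 x hx z hz hw.2.symm (fun h => hne (h.trans hw.2)) hwz)
  let φ : G → G := fun u => (x * u) * z * (x * u)⁻¹
  have hmaps : φ '' blk D f x ⊆ blk D f z := by
    rintro _ ⟨u, hu, rfl⟩
    exact ⟨conj_mem hD _ hz, mul_fixes hD f hinv h1 hx ⟨hx, rfl⟩ hu z hz⟩
  have hinj : Set.InjOn φ (blk D f x) := by
    intro u hu v hv h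
    have e : ∀ w ∈ blk D f x, φ w = (x * z) * w * (z * x) := by
      intro w hw
      show (x * w) * z * (x * w)⁻¹ = _
      have b := braid hD hw.1 hz (nc w hw)
      calc (x * w) * z * (x * w)⁻¹ = x * (w * z * w) * x := by
            rw [mul_inv_rev, inv_self hD hw.1, inv_self hD hx]; group
      _ = _ := by rw [b]; group
    rw [e u hu, e v hv] at h
    exact mul_left_cancel (mul_right_cancel h)
  obtain ⟨g, hg⟩ := exists_conj hD hx hz
  have hcard : (blk D f z).ncard ≤ (blk D f x).ncard := by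
    have hsub : blk D f z ⊆ (fun w => g * w * g⁻¹) '' blk D f x := by
      intro w hw
      refine ⟨g⁻¹ * w * g, ?_, by group⟩
      have := conj_blk hD f hinv (g := g⁻¹) hz hw
      rw [← hg] at this
      have e : g⁻¹ * (g * x * g⁻¹) * g⁻¹⁻¹ = x := by group
      rw [e, inv_inv] at this
      exact this
    exact (Set.ncard_le_ncard hsub (Set.toFinite _)).trans (Set.ncard_image_le (Set.toFinite _))
  rw [← hinj.ncard_image] at hcard
  obtain ⟨u, hu, hu'⟩ :=
    (Set.eq_of_subset_of_ncard_le hmaps hcard (Set.toFinite _)).symm ▸ hcB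
  exact ⟨u, hu, hu'.symm⟩

/-- **Block lemma.** -/
theorem block_trivial
    (hsol : ∀ N : Subgroup G, N.Normal → Group.IsSolvable ↥N → N = ⊥)
    (h2 : ∀ x ∈ D, ∀ z ∈ D, f z ≠ f x → ¬ Commute x z →
      ∃ e ∈ D, f e ≠ f x ∧ Commute x e ∧ ¬ Commute e z)
    (hnc : ∃ x ∈ D, ∃ z ∈ D, f z ≠ f x) :
    ∀ x ∈ D, ∀ v ∈ D, f v = f x → v = x := by
  classical
  -- every member of `D` has a commuting partner outside its fibre
  have hpart : ∀ x ∈ D, ∃ e ∈ D, f e ≠ f x ∧ Commute x e := by
    obtain ⟨x₀, hx₀, z₀, hz₀, hne⟩ := hnc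
    have h0 : ∃ e ∈ D, f e ≠ f x₀ ∧ Commute x₀ e := by
      by_cases hc : Commute x₀ z₀
      · exact ⟨z₀, hz₀, hne, hc⟩
      · obtain ⟨e, he, h1e, h2e, _⟩ := h2 x₀ hx₀ z₀ hz₀ hne hc
        exact ⟨e, he, h1e, h2e⟩
    obtain ⟨e, he, h1e, h2e⟩ := h0
    intro x hx
    obtain ⟨g, rfl⟩ := exists_conj hD hx₀ hx
    refine ⟨g * e * g⁻¹, conj_mem hD g he, fun h => h1e ?_, (Commute.conj_iff g).2 h2e⟩
    have := hinv g⁻¹ _ (conj_mem hD g he) _ hx h
    simpa [mul_assoc] using this
  apply block_trivial_of_solvable hD f hinv h1 hsol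
  intro x hx
  let K := blkGroup D f x
  have hKfix : K ≤ fixSub hD f := blkGroup_le_fixSub hD f hinv h1 hx
  -- the restriction to one non-commuting fibre is solvable
  have hz : ∀ z ∈ D, f z ≠ f x → ¬ Commute x z →
      ∃ n : ℕ, ∀ k ∈ derivedSeries K n, ∀ c ∈ blk D f z, Commute (k : G) c := by
    intro z hz hne hncx
    obtain ⟨e, he, hef, hce, hez⟩ := h2 x hx z hz hne hncx
    have hze : f z ≠ f e := by
      intro h
      exact hncx ((h1 e he z hz x hx h (fun h' => hef h'.symm) hce.symm).symm)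
    have reg : ∀ k ∈ K, Commute k z → ∀ c ∈ blk D f z, Commute k c := by
      intro k hk hkz c hc
      obtain ⟨w, hw, rfl⟩ := exists_mul_conj_eq hD f hinv h1 he hz hze hez hc
      have hp : e * w ∈ blkGroup D f e :=
        Subgroup.subset_closure ⟨e, ⟨he, rfl⟩, w, hw, rfl⟩
      have hkp : Commute k (e * w) := blkGroup_commute f h1 hx he hef hce hk hp
      exact (hkp.mul_right hkz).mul_right hkp.inv_right
    let N : Subgroup K := (Subgroup.centralizer (blk D f z)).subgroupOf K
    have memN : ∀ k : K, k ∈ N ↔ ∀ c ∈ blk D f z, Commute (k : G) c := by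
      intro k
      simp only [N, Subgroup.mem_subgroupOf, Subgroup.mem_centralizer_iff]
      exact ⟨fun h c hc => (h c hc).symm, fun h c hc => (h c hc).symm⟩
    have hNn : N.Normal := by
      refine ⟨fun n hn g => ?_⟩
      rw [memN] at hn ⊢
      intro c hc
      have hc' : (g : G)⁻¹ * c * g ∈ blk D f z := by
        refine ⟨by simpa using conj_mem hD (g : G)⁻¹ hc.1, ?_⟩
        have := (inv_mem (hKfix g.2) : _ ∈ fixSub hD f)
        have h := (this : ∀ w ∈ D, _) c hc.1
        rw [inv_inv] at h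
        rw [h]; exact hc.2
      have := (Commute.conj_iff (g : G)).2 (hn _ hc')
      simpa [mul_assoc] using this
    have hQ : ∀ q : K ⧸ N, q ^ 2 = 1 ∨ q ^ 3 = 1 := by
      intro q
      induction q using QuotientGroup.induction_on with
      | H k =>
        have hkz : (k : G) * z * (k : G)⁻¹ ∈ blk D f z :=
          ⟨conj_mem hD _ hz, (hKfix k.2 : ∀ w ∈ D, _) z hz⟩
        obtain ⟨u, hu, huk⟩ := exists_mul_conj_eq hD f hinv h1 hx hz hne hncx hkz
        have hxu : x * u ∈ K := Subgroup.subset_closure ⟨x, ⟨hx, rfl⟩, u, hu, rfl⟩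
        let p : K := ⟨x * u, hxu⟩
        have hpk : p⁻¹ * k ∈ N := by
          rw [memN]
          apply reg _ (p⁻¹ * k).2
          show (x * u)⁻¹ * (k : G) * z = z * ((x * u)⁻¹ * (k : G))
          calc (x * u)⁻¹ * (k : G) * z = (x * u)⁻¹ * ((k : G) * z * (k : G)⁻¹) * k := by group
          _ = _ := by rw [huk]; group
        have hqp : (k : K ⧸ N) = (p : K ⧸ N) := (QuotientGroup.eq.2 hpk).symm
        rw [hqp]
        rcases hD.1.2 x hx u hu.1 with h | h
        · left; rw [← QuotientGroup.mk_pow]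
          rw [show p ^ 2 = 1 from Subtype.ext h]; rfl
        · right; rw [← QuotientGroup.mk_pow]
          rw [show p ^ 3 = 1 from Subtype.ext h]; rfl
    have := hNn
    obtain ⟨n, hn⟩ := (isSolvable_of_sq_or_cube hQ).solvable
    refine ⟨n, fun k hk c hc => ?_⟩
    have hmem : QuotientGroup.mk' N k ∈ derivedSeries (K ⧸ N) n :=
      map_derivedSeries_le_derivedSeries (QuotientGroup.mk' N) n (Subgroup.mem_map_of_mem _ hk)
    rw [hn, Subgroup.mem_bot] at hmem
    exact (memN k).1 ((QuotientGroup.eq_one_iff k).1 hmem) c hc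
  choose! nz hnz using hz
  let n := D.toFinite.toFinset.sup nz
  -- the common kernel is normal, abelian, hence trivial
  let S : Set G := {z | z ∈ D ∧ f z ≠ f x}
  let M : Subgroup G := K ⊓ Subgroup.centralizer S
  have memM : ∀ k, k ∈ M ↔ k ∈ K ∧ ∀ c ∈ S, Commute k c := by
    intro k
    simp only [M, Subgroup.mem_inf, Subgroup.mem_centralizer_iff]
    exact ⟨fun h => ⟨h.1, fun c hc => (h.2 c hc).symm⟩, fun h => ⟨h.1, fun c hc => (h.2 c hc).symm⟩⟩
  have hMn : M.Normal := by
    refine normal_of_conj_mem hD M (fun d hd m hm => ?_)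
    by_cases hdx : f d = f x
    · rw [memM] at hm ⊢
      have hdd : f (d * x * d⁻¹) = f x := by
        have := hinv d x hx d hd hdx.symm
        rw [conj_eq hD hd d, sq_one hD hd, one_mul] at this
        rw [this, hdx]
      refine ⟨?_, fun c hc => ?_⟩
      · have := conj_blkGroup hD f hinv (g := d) hx hm.1
        rwa [blkGroup_congr f hdd] at this
      · have hc' : d⁻¹ * c * d⁻¹⁻¹ ∈ S := by
          refine ⟨conj_mem hD _ hc.1, fun h => hc.2 ?_⟩
          have := hinv d _ (conj_mem hD _ hc.1) _ hx h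
          have e : d * (d⁻¹ * c * d⁻¹⁻¹) * d⁻¹ = c := by group
          rw [e, hdd] at this; exact this
        have := (Commute.conj_iff d).2 (hm.2 _ hc')
        simpa [mul_assoc] using this
    · have hcm := ((memM m).1 hm).2 d ⟨hd, hdx⟩
      rw [← hcm.eq, mul_assoc, mul_inv_cancel, mul_one]
      exact hm
  have hMb : M = ⊥ := by
    refine eq_bot_of_isSolvable_normal hsol hMn (fun a ha b hb => ?_)
    obtain ⟨e, he, hef, hce⟩ := hpart x hx
    obtain ⟨g, hg⟩ := exists_conj hD hx he
    have hb' : b ∈ blkGroup D f e := by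
      have h := hMn.conj_mem b hb g⁻¹
      have := conj_blkGroup hD f hinv (g := g) hx ((memM _).1 h).1
      rw [hg] at this
      simpa [mul_assoc] using this
    exact blkGroup_commute f h1 hx he hef hce ((memM a).1 ha).1 hb'
  refine ⟨⟨n, ?_⟩⟩
  rw [eq_bot_iff]
  intro k hk
  have : (k : G) ∈ M := by
    rw [memM]
    refine ⟨k.2, fun c hc => ?_⟩
    by_cases hcx : Commute x c
    · refine (Subgroup.mem_centralizer_iff.1 ((Subgroup.closure_le
        (Subgroup.centralizer {c})).2 ?_ k.2) c rfl).symm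
      rintro _ ⟨u, hu, v, hv, rfl⟩
      rw [SetLike.mem_coe, Subgroup.mem_centralizer_singleton_iff]
      exact Commute.mul_left (h1 x hx u hu.1 c hc.1 hu.2 hc.2 hcx)
        (h1 x hx v hv.1 c hc.1 hv.2 hc.2 hcx)
    · exact hnz c hc.1 hc.2 hcx k (derivedSeries_antitone K (Finset.le_sup (f := nz)
        ((Set.Finite.mem_toFinset _).2 hc.1)) hk) c ⟨hc.1, rfl⟩
  rw [hMb, Subgroup.mem_bot] at this
  exact Subgroup.mem_bot.2 (Subtype.ext this)

end Block

end CfsgLib.FischerTransitivity
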